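import Groth.Agent.L11.Bdd.Tau
import Groth.Agent.L11.Bdd.Regular
import Groth.Agent.L11.Bdd.Good
import Groth.Agent.L11.NumOrth.Proper
import Groth.Agent.L22.VeryAmple.Immersion
import Groth.Agent.L22.Big.Volume
import Groth.Agent.S12111

/-!
Ample modules dominate numerically trivial ones: uniform vanishing, equality of `h⁰`.
-/

set_option autoImplicit false
set_option backward.isDefEq.respectTransparency false
set_option linter.style.haveILetI false
set_option linter.unusedSectionVars false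

universe u

open CategoryTheory CategoryTheory.Limits AlgebraicGeometry TopologicalSpace

noncomputable section

namespace Groth.L02.NTVanish

open Groth.L11.NumOrth Groth.L22.Inter Groth.L22.Big Groth.L16
open Groth.L00.Tensor (tensorIso tensorAssoc tensorComm tensorUnitRight tensorUnitLeft tensorPowAdd tensorPowIso tensorPowMul)

variable (k : Type u) [Field k] {X : Scheme.{u}} [X.Over (Spec (CommRingCat.of k))]
  [IsProper (X ↘ Spec (CommRingCat.of k))]

/-- Uniform vanishing on a proper scheme over an algebraically closed field. -/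
theorem vanishing_closed [IsAlgClosed k] {L : X.Modules} (hL : CohB1.IsAmple L) :
    ∃ m₀ : ℕ, ∀ m : ℕ, m₀ ≤ m → ∀ N : X.Modules, NT k N → ∀ q : ℕ, 1 ≤ q →
      Subsingleton (Coh.HH X (CohB1.tensorMod (CohB1.tensorPow L m) N) q) := by
  classical
  haveI : CompactSpace X := QuasiCompact.compactSpace_of_compactSpace (X ↘ Spec (CommRingCat.of k))
  haveI := Groth.L21.RR.isNoetherian_of_proper (X := X) k
  haveI : X.IsSeparated := ⟨by
    have : terminal.from X = (X ↘ Spec (CommRingCat.of k)) ≫ terminal.from _ := Subsingleton.elim _ _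
    rw [this]; infer_instance⟩
  obtain ⟨N₀, hN₀, n, ι₀, hι₀, himm, ⟨eN⟩⟩ :=
    Groth.L22.VeryAmple.exists_immersion_of_isAmple (X ↘ Spec (CommRingCat.of k)) hL
  let ι : X ⟶ CohB1.ProjSpace n k := ι₀
  have hι : ι ≫ CohB1.ProjSpace.toSpec n k = (X ↘ Spec (CommRingCat.of k)) := hι₀
  haveI : IsImmersion ι := himm
  haveI : IsProper (ι ≫ CohB1.ProjSpace.toSpec n k) := by rw [hι]; infer_instance
  haveI : IsClosedImmersion ι := by
    haveI : IsProper ι := IsProper.of_comp ι (CohB1.ProjSpace.toSpec n k)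
    exact IsClosedImmersion.of_isPreimmersion ι ι.isClosedMap.isClosed_range
  have eA : OX ι 1 ≅ CohB1.tensorPow L N₀ :=
    (Scheme.Modules.pullback ι).mapIso (show Twist.twistProjSpace n k 1 ≅ Groth.L18.PUP.O1 n k from Iso.refl _) ≪≫ eN
  have hb : Groth.L11.Bdd.Bd (k := k) (fun N : X.Modules => NT k N) :=
    Groth.L11.Bdd.Bd.of_isBounded (Groth.L11.Bdd.isBounded_NT k)
  have hLj : ∀ j : ℕ, Coh.IsCoh (CohB1.tensorPow L j) := fun j =>
    Groth.L18.Ample.isCoh_of_isInvertible (Groth.L18.Ample.isInvertible_tensorPow hL.1 j)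
  choose mj sj hj using fun j : Fin N₀ =>
    Groth.L11.Bdd.regular_polys_of_bounded k ι hι (hb.tensor (hLj j)).isBounded
  let D := Finset.univ.sup fun j => (mj j).toNat
  refine ⟨N₀ * (D + 1), fun m hm N hN q hq => ?_⟩
  let d := m / N₀
  let j : Fin N₀ := ⟨m % N₀, Nat.mod_lt _ hN₀⟩
  have hd : D ≤ d := by
    have : D + 1 ≤ d := (Nat.le_div_iff_mul_le hN₀).2 (by rw [mul_comm]; exact hm)
    omega
  have hmj : mj j ≤ (d : ℤ) + q := by
    have h1 : (mj j).toNat ≤ D := Finset.le_sup (f := fun j => (mj j).toNat) (Finset.mem_univ j)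
    omega
  have hcoh : Coh.IsCoh (CohB1.tensorMod (CohB1.tensorPow L j) N) :=
    Groth.L15.Ref.isCoh_tensorMod (hLj j) (Groth.L18.Ample.isCoh_of_isInvertible hN.1)
  have hreg := (Groth.Agent.S12111.result k n ι _ hcoh (mj j)
    (hj j _ ⟨N, hN, ⟨Iso.refl _⟩⟩).1 ((d : ℤ) + q) hmj).1 q hq
  rw [show (d : ℤ) + q - q = (d : ℤ) by ring] at hreg
  obtain ⟨eP⟩ := nonempty_pow_OX ι d
  have e : Pic13.twistOn k ι (CohB1.tensorMod (CohB1.tensorPow L j) N) (d : ℤ) ≅
      CohB1.tensorMod (CohB1.tensorPow L m) N :=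
    twistTensor ι _ N _ ≪≫ tensorIso (tensorIso (Iso.refl _)
      (eP.symm ≪≫ tensorPowIso eA d ≪≫ tensorPowMul L N₀ d) ≪≫ tensorPowAdd L j (N₀ * d) ≪≫
      eqToIso (by rw [Nat.mod_add_div m N₀])) (Iso.refl N)
  haveI := hreg
  exact (Groth.L17.BC.HHequiv e q).symm.toEquiv.subsingleton

/-- Uniform vanishing on a proper scheme over a field. -/
theorem vanishing {L : X.Modules} (hL : CohB1.IsAmple L) :
    ∃ m₀ : ℕ, ∀ m : ℕ, m₀ ≤ m → ∀ N : X.Modules, PicF.IsInvertible N → Pic13.IsNumEquivZero k X N →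
      ∀ q : ℕ, 1 ≤ q → Subsingleton (Coh.HH X (CohB1.tensorMod (CohB1.tensorPow L m) N) q) := by
  haveI := Groth.L21.RR.isNoetherian_of_proper (X := X) k
  let E := AlgebraicClosure k
  let g := projE k E X
  have sq : IsPullback g (XE k E X ↘ Spec (CommRingCat.of E)) (X ↘ Spec (CommRingCat.of k))
      (Spec.map (CommRingCat.ofHom (algebraMap k E))) := IsPullback.of_hasPullback _ _
  haveI := Groth.L21.RR.isNoetherian_of_proper (X := XE k E X) E
  haveI : IsAffineHom g := MorphismProperty.pullback_fst _ _ inferInstance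
  have hLE : CohB1.IsAmple ((Scheme.Modules.pullback g).obj L) := Groth.L18.Ample.isAmple_pullback_of_isAffineHom g hL
  obtain ⟨m₀, hm₀⟩ := vanishing_closed E hLE
  refine ⟨m₀, fun m hm N hN h0 q hq => ?_⟩
  obtain ⟨Q, hQ, ⟨e⟩⟩ := Groth.L08.Cube.exists_inverse hN
  have hNT : NT E ((Scheme.Modules.pullback g).obj N) := by
    refine ⟨Groth.L18.Ample.isInvertible_pullback g hN, ?_⟩
    rw [numZero_iff_isNef E (Groth.L18.Ample.isInvertible_pullback g hN) (Groth.L18.Ample.isInvertible_pullback g hQ)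
      (Groth.L29.DC.PullTensor.pullTensor g N Q ≪≫ (Scheme.Modules.pullback g).mapIso e ≪≫
        Groth.L29.LocFree.pullbackUnitIso g), ← isNef_XE_iff k E hN, ← isNef_XE_iff k E hQ]
    exact (numZero_iff_isNef k hN hQ e).1 h0
  have hc : Coh.IsCoh (CohB1.tensorMod (CohB1.tensorPow L m) N) :=
    Groth.L18.Ample.isCoh_of_isInvertible
      (Groth.L18.GenLoc.isInvertible_tensor (Groth.L18.Ample.isInvertible_tensorPow hL.1 m) hN)
  have eg : (Scheme.Modules.pullback g).obj (CohB1.tensorMod (CohB1.tensorPow L m) N) ≅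
      CohB1.tensorMod (CohB1.tensorPow ((Scheme.Modules.pullback g).obj L) m) ((Scheme.Modules.pullback g).obj N) :=
    (Groth.L29.DC.PullTensor.pullTensor g _ _).symm ≪≫
      tensorIso (Groth.L11.Bdd.pullback_pow g L m).some (Iso.refl _)
  haveI := hm₀ m hm _ hNT q hq
  haveI : Subsingleton (Coh.HH (XE k E X) ((Scheme.Modules.pullback g).obj
      (CohB1.tensorMod (CohB1.tensorPow L m) N)) q) :=
    (Groth.L17.BC.HHequiv eg.symm q).symm.toEquiv.subsingleton
  haveI := ProperFinite.finite_HH k hc q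
  refine Module.finrank_zero_iff.1 (?_ : Module.finrank k _ = 0)
  refine (Groth.L21.RR.h_pullback g sq hc q).symm.trans ?_
  exact Module.finrank_zero_of_subsingleton

/-- `h⁰(L^m ⊗ N) = h⁰(L^m)` for large `m`. -/
theorem exists_h0_eq {L : X.Modules} (hL : CohB1.IsAmple L) [Nonempty X] :
    ∃ m₀ : ℕ, ∀ m : ℕ, m₀ ≤ m → ∀ N : X.Modules, PicF.IsInvertible N → Pic13.IsNumEquivZero k X N →
      h0 k (CohB1.tensorMod (CohB1.tensorPow L m) N) = h0 k (CohB1.tensorPow L m) := by
  haveI := Groth.L21.RR.isNoetherian_of_proper (X := X) k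
  obtain ⟨m₀, hm₀⟩ := vanishing k hL
  obtain ⟨z₀, hz₀⟩ := Groth.L16.Rees.RelVanish.exists_vanishing (X ↘ Spec (CommRingCat.of k)) hL
    (CohClosedPush.isCoh_structure (X := X))
  refine ⟨max m₀ z₀, fun m hm N hN h0N => ?_⟩
  have hc := Groth.L18.Ample.isCoh_of_isInvertible (Groth.L18.Ample.isInvertible_tensorPow hL.1 m)
  have key : ∀ M : X.Modules, (∀ q, 1 ≤ q → Subsingleton (Coh.HH X M q)) →
      Curv2.euler k X M = (h0 k M : ℤ) := fun M hM => by
    rw [Groth.L03.Euler.euler_eq_sum (k := k) hM, Finset.sum_range_one, pow_zero, one_mul]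
    exact congrArg Nat.cast (h0_def k M).symm
  have h1 := key _ (hm₀ m (le_of_max_le_left hm) N hN h0N)
  have h2 := key _ (fun q hq => by
    haveI := hz₀ m (le_of_max_le_right hm) q hq
    exact (Groth.L17.BC.HHequiv (tensorUnitLeft (CohB1.tensorPow L m)) q).symm.toEquiv.subsingleton)
  rw [euler_invariant k hN h0N hc, h2] at h1
  exact_mod_cast h1.symm

end Groth.L02.NTVanish
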