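import Groth.Agent.L02.NTVanish.Basic
import Groth.Agent.L17.FSheaf.ComplMonoEpi

/-!
The volume depends only on the numerical class; big modules dominate numerically trivial ones.
-/

set_option autoImplicit false
set_option backward.isDefEq.respectTransparency false
set_option linter.style.haveILetI false
set_option linter.unusedSectionVars false

universe u

open CategoryTheory CategoryTheory.Limits AlgebraicGeometry TopologicalSpace
open scoped ENNReal

noncomputable section

namespace Groth.L02.NTVanish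

open Groth.L11.NumOrth Groth.L22.Inter Groth.L22.Big Groth.L16 Groth.L03.Euler
open Groth.L00.Tensor (tensorIso tensorAssoc tensorComm tensorUnitRight tensorUnitLeft tensorPowAdd tensorPowIso tensorPowMul tensorPowTensor)

variable (k : Type u) [Field k] {X : Scheme.{u}} [X.Over (Spec (CommRingCat.of k))]
  [IsProper (X ↘ Spec (CommRingCat.of k))] [IsIntegral X]

include k in
/-- A generic section makes `h⁰` positive. -/
theorem h0_pos_of_section {E : X.Modules} (hE : PicF.IsInvertible E) {s : Coh.structureModule X ⟶ E}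
    (hs : genericPoint X ∈ CohB1.genLocus E s) : 0 < h0 k E := by
  haveI := Groth.L21.RR.isNoetherian_of_proper (X := X) k
  refine lt_of_lt_of_le ?_ (h0_le_tensor k (Groth.L18.Ample.isInvertible_structureModule X) hE hs |>.trans_eq
    (h0_iso k (tensorUnitLeft _)))
  rw [h0_pos_iff k (CohClosedPush.isCoh_structure (X := X))]
  refine ⟨⟨(Groth.L21.RR.e0 _).symm (Groth.L18.GenLoc.secOf (𝟙 (Coh.structureModule X))), 0, fun h => ?_⟩⟩
  have h1 := congrArg (Groth.L21.RR.e0 (Coh.structureModule X)) h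
  rw [AddEquiv.apply_symm_apply, map_zero] at h1
  have h2 : (1 : Γ(X, ⊤)) = 0 := h1
  have h3 := congrArg (X.presheaf.germ ⊤ (genericPoint X) trivial) h2
  rw [map_one, map_zero] at h3
  exact one_ne_zero h3

include k in
/-- Large powers of an ample module have generic sections. -/
theorem exists_pow_section {L : X.Modules} (hL : CohB1.IsAmple L) :
    ∃ e : ℕ, ∀ m : ℕ, e ≤ m → ∃ s : Coh.structureModule X ⟶ CohB1.tensorPow L m,
      genericPoint X ∈ CohB1.genLocus _ s := by
  haveI := Groth.L21.RR.isNoetherian_of_proper (X := X) k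
  have hO := Groth.L18.Ample.isInvertible_structureModule X
  obtain ⟨e, he⟩ := Groth.L18.Ample.exists_forall_isGloballyGenerated hL _ (CohClosedPush.isCoh_structure (X := X))
  refine ⟨e, fun m hm => ?_⟩
  have hG := Groth.L18.GenLoc.isInvertible_tensor hO (Groth.L18.Ample.isInvertible_tensorPow hL.1 m)
  obtain ⟨t, ht⟩ := Groth.L18.Ample.exists_genLocus_mem_of_gg hG (he m hm) (genericPoint X)
  refine ⟨t ≫ (tensorUnitLeft _).hom, ?_⟩
  rw [Groth.L16.genLocus_comp_iso]
  exact ht

/-- An ample module gives an effective module dominating numerically trivial ones. -/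
theorem exists_dominant {H : X.Modules} (hH : CohB1.IsAmple H) :
    ∃ m₀ : ℕ, ∀ m : ℕ, m₀ ≤ m → ∀ N : X.Modules, PicF.IsInvertible N → Pic13.IsNumEquivZero k X N →
      0 < h0 k (CohB1.tensorMod (CohB1.tensorPow H m) N) := by
  obtain ⟨m₀, h₀⟩ := exists_h0_eq k hH
  obtain ⟨e, he⟩ := exists_pow_section k hH
  refine ⟨max m₀ e, fun m hm N hN h0N => ?_⟩
  obtain ⟨s, hs⟩ := he m (le_of_max_le_right hm)
  rw [h₀ m (le_of_max_le_left hm) N hN h0N]
  exact h0_pos_of_section k (Groth.L18.Ample.isInvertible_tensorPow hH.1 m) hs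

/-- Twisting by a fixed effective module changes `h⁰(L^m)` by `o(m^d)`. -/
theorem exists_twist_bound {H : X.Modules} (hH : CohB1.IsAmple H) {L : X.Modules} (hL : PicF.IsInvertible L)
    {A : X.Modules} (hA : PicF.IsInvertible A) {s : Coh.structureModule X ⟶ A} (hs : s ≠ 0) {d : ℕ}
    (hd : topologicalKrullDim X = d) :
    ∃ g : ℕ → ℕ, Filter.Tendsto (fun m : ℕ => (g m : ℝ≥0∞) / (m : ℝ≥0∞) ^ d) Filter.atTop (nhds 0) ∧
      ∀ m : ℕ, h0 k (CohB1.tensorMod A (CohB1.tensorPow L m)) ≤ h0 k (CohB1.tensorPow L m) + g m := by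
  haveI := Groth.L21.RR.isNoetherian_of_proper (X := X) k
  obtain ⟨S, hS, e1, e2, hQ, hgen⟩ := exists_section_seq k hA s hs
  refine ⟨fun m => h0 k (CohB1.tensorMod S.X₃ (CohB1.tensorPow L m)), ?_, fun m => ?_⟩
  · have hsc := CohSupport.isClosed_support S.X₃ hQ.2
    rcases d with _ | e
    · have hemp : CohB1.support S.X₃ = ∅ := by
        refine Set.eq_empty_iff_forall_notMem.2 fun x hx => hgen ?_
        have h0' := Groth.L03.Euler.zero_le_topologicalKrullDim (S := CohB1.support S.X₃) ⟨x, hx⟩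
        have h1 := (topologicalKrullDim_add_one_le hsc (IrreducibleSpace.isIrreducible_univ X)
          (Set.subset_univ _) fun he => hgen (he ▸ trivial)).trans
          ((IsHomeomorph.topologicalKrullDim_eq _ (Homeomorph.Set.univ X).isHomeomorph).trans_le hd.le)
        have h3 : ((1 : ℕ) : WithBot ℕ∞) ≤ ((0 : ℕ) : WithBot ℕ∞) :=
          le_trans (by simpa using add_le_add_left h0' 1) h1
        norm_num at h3
      have hz : IsZero S.X₃ := Groth.L17.FSheaf.isZero_of_support_eq_empty hemp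
      refine tendsto_const_nhds.congr fun m => ?_
      have : h0 k (CohB1.tensorMod S.X₃ (CohB1.tensorPow L m)) = 0 := by
        haveI := subsingleton_HH_of_isZero (isZero_tensor hz (CohB1.tensorPow L m)) 0
        rw [h0_def]
        exact Module.finrank_zero_of_subsingleton
      simp only [this, Nat.cast_zero, ENNReal.zero_div]
    · have hdim := dim_le_of_generic_notMem hsc hgen (n := e) hd.le
      obtain ⟨C, hC⟩ := exists_h0_le k hH (L := ![L]) (Fin.forall_fin_one.2 hL) hQ hdim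
      have hb : ∀ᶠ m : ℕ in Filter.atTop, (h0 k (CohB1.tensorMod S.X₃ (CohB1.tensorPow L m)) : ℝ≥0∞) /
          (m : ℝ≥0∞) ^ (e + 1) ≤ ((C * 2 ^ e : ℕ) : ℝ≥0∞) / (m : ℝ≥0∞) := by
        filter_upwards [Filter.eventually_ge_atTop 1] with m hm
        have h1 : h0 k (CohB1.tensorMod S.X₃ (CohB1.tensorPow L m)) ≤ C * 2 ^ e * m ^ e := by
          rw [← h0_iso k (tensorIso (Iso.refl S.X₃) (show Curv2.tensorPows (Coh.structureModule X) 1 ![L] ![m] ≅
            CohB1.tensorPow L m from tensorUnitLeft _))]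
          refine (hC ![m]).trans ?_
          rw [Fin.sum_univ_one, mul_assoc, ← mul_pow]
          exact Nat.mul_le_mul_left C (Nat.pow_le_pow_left (by simp; omega) e)
        have hm0 : (m : ℝ≥0∞) ≠ 0 := Nat.cast_ne_zero.2 (by omega)
        calc (h0 k (CohB1.tensorMod S.X₃ (CohB1.tensorPow L m)) : ℝ≥0∞) / (m : ℝ≥0∞) ^ (e + 1)
            ≤ ((C * 2 ^ e * m ^ e : ℕ) : ℝ≥0∞) / (m : ℝ≥0∞) ^ (e + 1) :=
              ENNReal.div_le_div_right (by exact_mod_cast h1) _
          _ = ((C * 2 ^ e : ℕ) : ℝ≥0∞) / (m : ℝ≥0∞) := by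
              rw [Nat.cast_mul, Nat.cast_pow, pow_succ, mul_comm ((C * 2 ^ e : ℕ) : ℝ≥0∞),
                ENNReal.mul_div_mul_left _ _ (pow_ne_zero _ hm0) (by simp)]
      refine tendsto_of_tendsto_of_tendsto_of_le_of_le' tendsto_const_nhds ?_
        (Filter.Eventually.of_forall fun m => zero_le) hb
      simpa using ENNReal.Tendsto.const_div ENNReal.tendsto_nat_nhds_top
        (Or.inr (ENNReal.natCast_ne_top (C * 2 ^ e)))
  · have hLm := Groth.L18.Ample.isInvertible_tensorPow hL m
    have h1 := h0_le_add k (shortExact_tensor hLm hS)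
      (isCoh_tensor hLm (e1 ▸ CohClosedPush.isCoh_structure (X := X)))
      (isCoh_tensor hLm (e2 ▸ Groth.L18.Ample.isCoh_of_isInvertible hA)) (isCoh_tensor hLm hQ)
    change h0 k (CohB1.tensorMod S.X₂ (CohB1.tensorPow L m)) ≤
      h0 k (CohB1.tensorMod S.X₁ (CohB1.tensorPow L m)) + _ at h1
    rw [h0_iso k (tensorIso (eqToIso e1) (Iso.refl _) ≪≫ tensorUnitLeft (CohB1.tensorPow L m)),
      h0_iso k (tensorIso (eqToIso e2) (Iso.refl (CohB1.tensorPow L m)))] at h1
    exact h1

theorem vol_le_of_numTriv {H : X.Modules} (hH : CohB1.IsAmple H) {L N : X.Modules} (hL : PicF.IsInvertible L)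
    (hN : NT k N) {d : ℕ} (hd : topologicalKrullDim X = d) :
    vol k (CohB1.tensorMod L N) d ≤ vol k L d := by
  haveI := Groth.L21.RR.isNoetherian_of_proper (X := X) k
  obtain ⟨m₀, hm₀⟩ := exists_dominant k hH
  obtain ⟨e, he⟩ := exists_pow_section k hH
  let A := CohB1.tensorPow H (max m₀ e)
  have hA : PicF.IsInvertible A := Groth.L18.Ample.isInvertible_tensorPow hH.1 _
  obtain ⟨s, hs⟩ := he (max m₀ e) (le_max_right _ _)
  have hs0 : s ≠ 0 := fun h => by
    have hp := h0_pos_of_section k hA hs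
    have hb := bijective_stalk_section s hs
    rw [h, Functor.map_zero] at hb
    have hlen := (CohSupport.len_eq_zero_iff (genericPoint X) (Coh.structureModule X)).not.1
      (by rw [Groth.L22.Nakai.len_structure']; exact one_ne_zero)
    exact hlen fun hsub => hsub ⟨fun a b => hb.1 rfl⟩
  obtain ⟨Q, hQ, ⟨ι⟩⟩ := hN.exists_inverse
  obtain ⟨g, hg, hbound⟩ := exists_twist_bound k hH hL hA hs0 hd
  have hLN := Groth.L18.GenLoc.isInvertible_tensor hL hN.1
  have hle : ∀ m : ℕ, h0 k (CohB1.tensorPow (CohB1.tensorMod L N) m) ≤ h0 k (CohB1.tensorPow L m) + g m := fun m => by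
    have hE : PicF.IsInvertible (CohB1.tensorMod A (CohB1.tensorPow Q m)) :=
      Groth.L18.GenLoc.isInvertible_tensor hA (hQ.pow m).1
    obtain ⟨t, ht⟩ := exists_nonzero_of_h0 k (hm₀ _ (le_max_left _ _) _ (hQ.pow m).1 (hQ.pow m).2)
    refine le_trans ((h0_le_tensor k (Groth.L18.Ample.isInvertible_tensorPow hLN m) hE
      (Groth.L22.CurveAmple.genericPoint_mem_genLocus hE ht)).trans_eq (h0_iso k ?_)) (hbound m)
    exact tensorComm _ _ ≪≫ tensorAssoc _ _ _ ≪≫ tensorIso (Iso.refl A)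
      ((tensorPowTensor Q _ m).symm ≪≫ tensorPowIso
        (tensorComm _ _ ≪≫ tensorAssoc L N Q ≪≫ tensorIso (Iso.refl L) ι ≪≫ tensorUnitRight L) m)
  refine le_of_forall_gt_imp_ge_of_dense fun b hb => ?_
  have hev := Filter.eventually_lt_of_limsup_lt hb (by isBoundedDefault)
  have hlim : Filter.Tendsto (fun m : ℕ => b + (g m : ℝ≥0∞) / (m : ℝ≥0∞) ^ d) Filter.atTop (nhds b) := by
    simpa using (tendsto_const_nhds (x := b)).add hg
  refine (Filter.limsup_le_limsup ?_).trans_eq hlim.limsup_eq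
  filter_upwards [hev] with m hm
  refine le_trans (ENNReal.div_le_div_right (Nat.cast_le.2 (hle m)) _) ?_
  rw [Nat.cast_add, ENNReal.add_div]
  gcongr

/-- The volume is a numerical invariant. -/
theorem vol_eq_of_numTriv {H : X.Modules} (hH : CohB1.IsAmple H) {L N : X.Modules} (hL : PicF.IsInvertible L)
    (hN : NT k N) {d : ℕ} (hd : topologicalKrullDim X = d) :
    vol k (CohB1.tensorMod L N) d = vol k L d := by
  refine le_antisymm (vol_le_of_numTriv k hH hL hN hd) ?_
  obtain ⟨Q, hQ, ⟨ι⟩⟩ := hN.exists_inverse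
  refine le_of_eq_of_le ?_ (vol_le_of_numTriv k hH (Groth.L18.GenLoc.isInvertible_tensor hL hN.1) hQ hd)
  refine congrArg (fun f => Filter.limsup f Filter.atTop) (funext fun m => ?_)
  rw [h0_iso k (tensorPowIso (tensorAssoc L N Q ≪≫ tensorIso (Iso.refl L) ι ≪≫ tensorUnitRight L) m)]

/-- Big modules dominate numerically trivial ones. -/
theorem exists_pow_dominant {H : X.Modules} (hH : CohB1.IsAmple H) {L : X.Modules} (hL : PicF.IsInvertible L)
    {d : ℕ} (hd : topologicalKrullDim X = d) (h : 0 < vol k L d) :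
    ∃ a : ℕ, 0 < a ∧ ∀ j : ℕ, 0 < j → ∀ N : X.Modules, PicF.IsInvertible N → Pic13.IsNumEquivZero k X N →
      0 < h0 k (CohB1.tensorMod (CohB1.tensorPow L (a * j)) N) := by
  haveI := Groth.L21.RR.isNoetherian_of_proper (X := X) k
  obtain ⟨ν, B, φ, hν, hB, hφ⟩ := exists_mono_of_vol_pos k hH hL hd h
  haveI := hφ
  have hLν := Groth.L18.Ample.isInvertible_tensorPow hL ν
  obtain ⟨B', hB', ⟨ι⟩, t, ht⟩ := exists_section_of_mono k hB.1 hLν φ
  obtain ⟨m₀, hm₀⟩ := exists_dominant k hB
  refine ⟨ν * (m₀ + 1), Nat.mul_pos hν (Nat.succ_pos _), fun j hj N hN h0N => ?_⟩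
  let q := (m₀ + 1) * j
  have hq : m₀ ≤ q := (Nat.le_succ _).trans (Nat.le_mul_of_pos_right _ hj)
  have hE := Groth.L18.GenLoc.isInvertible_tensor hLν hB'
  obtain ⟨tq, htq⟩ := exists_generic_section_pow hE ht q
  refine lt_of_lt_of_le (hm₀ q hq N hN h0N) (le_of_le_of_eq (h0_le_tensor k
    (Groth.L18.GenLoc.isInvertible_tensor (Groth.L18.Ample.isInvertible_tensorPow hB.1 q) hN)
    (Groth.L18.Ample.isInvertible_tensorPow hE q) htq) (h0_iso k ?_))
  exact tensorAssoc _ _ _ ≪≫ tensorIso (Iso.refl _) (tensorComm N _) ≪≫ (tensorAssoc _ _ _).symm ≪≫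
    tensorIso ((tensorPowTensor B _ q).symm ≪≫ tensorPowIso
      (tensorIso (Iso.refl B) (tensorComm _ B') ≪≫ (tensorAssoc _ _ _).symm ≪≫ tensorIso ι (Iso.refl _) ≪≫
        tensorUnitLeft _) q ≪≫ tensorPowMul L ν q ≪≫ eqToIso (by rw [Nat.mul_assoc])) (Iso.refl N)

end Groth.L02.NTVanish
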